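import Groth.Agent.EtShLib.PieceCons
import Groth.Agent.EtShLib.NoethCons
import Mathlib.Algebra.Category.ModuleCat.Adjunctions
import Mathlib.RingTheory.Flat.Basic

/-! Free étale sheaves of modules on objects of the site: sections, stalks, constructibility. -/

set_option autoImplicit false
set_option linter.unusedSectionVars false
set_option linter.style.haveILetI false
set_option backward.isDefEq.respectTransparency false
set_option backward.isDefEq.respectTransparency.types false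
set_option synthInstance.maxHeartbeats 400000
set_option maxHeartbeats 1000000

universe u

open CategoryTheory CategoryTheory.Limits AlgebraicGeometry Opposite Topology

namespace Groth.Agent.ModGenLib

open Groth.Agent.EtShLib

variable (Λ : Type (u + 1)) [CommRing Λ] {X : Scheme.{u}} (U : X.Etale)

/-- The free presheaf of modules on an object. -/
noncomputable abbrev freePre : X.Etaleᵒᵖ ⥤ ModuleCat.{u + 1} Λ :=
  yoneda.obj U ⋙ uliftFunctor.{u + 1} ⋙ ModuleCat.free Λ

/-- The free sheaf of modules `j_! Λ` on an object of the site. -/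
noncomputable def freeSh : EtModW.Mod Λ X := (presheafToSheaf X.smallEtaleTopology _).obj (freePre Λ U)

/-- The tautological section. -/
noncomputable def gen : (freeSh Λ U).obj.obj (op U) :=
  (toSheafify X.smallEtaleTopology (freePre Λ U)).app (op U) (ModuleCat.freeMk (ULift.up (𝟙 U)))

/-- Multiples of the tautological section. -/
noncomputable def genHom : ModuleCat.of Λ Λ ⟶ (freeSh Λ U).obj.obj (op U) :=
  ModuleCat.ofHom (LinearMap.toSpanSingleton Λ _ (gen Λ U))

theorem genHom_one : genHom Λ U (1 : Λ) = gen Λ U := one_smul _ _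

variable {Λ U}

theorem hom_ext {N : EtModW.Mod Λ X} {a b : freeSh Λ U ⟶ N}
    (h : a.hom.app (op U) (gen Λ U) = b.hom.app (op U) (gen Λ U)) : a = b := by
  apply Sheaf.hom_ext
  refine sheafify_hom_ext _ _ _ N.property ?_
  ext V : 2
  refine ModuleCat.free_hom_ext fun x => ?_
  obtain ⟨g⟩ := x
  have hx : ∀ c : freeSh Λ U ⟶ N,
      (toSheafify X.smallEtaleTopology (freePre Λ U) ≫ c.hom).app V (ModuleCat.freeMk (ULift.up g)) =
        N.obj.map g.op (c.hom.app (op U) (gen Λ U)) := fun c => by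
    refine Eq.trans ?_ (NatTrans.naturality_apply (toSheafify X.smallEtaleTopology (freePre Λ U) ≫ c.hom)
      g.op (ModuleCat.freeMk (ULift.up (𝟙 U))))
    refine congrArg _ ?_
    show ModuleCat.freeMk _ = (ModuleCat.free Λ).map _ (ModuleCat.freeMk _)
    rw [ModuleCat.free_map_apply]
    exact congrArg (fun t => ModuleCat.freeMk (ULift.up t)) (Category.comp_id g).symm
  exact (hx a).trans ((congrArg (N.obj.map g.op) h).trans (hx b).symm)

theorem exists_hom {N : EtModW.Mod Λ X} (s : N.obj.obj (op U)) :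
    ∃ a : freeSh Λ U ⟶ N, a.hom.app (op U) (gen Λ U) = s := by
  let p : freePre Λ U ⟶ N.obj :=
    { app := fun V => ModuleCat.freeDesc (TypeCat.ofHom fun g => N.obj.map (ULift.down g).op s)
      naturality := fun V W k => ModuleCat.free_hom_ext fun g => by
        show ModuleCat.freeDesc _ ((ModuleCat.free Λ).map _ (ModuleCat.freeMk g)) =
          N.obj.map k (ModuleCat.freeDesc _ (ModuleCat.freeMk g))
        rw [ModuleCat.free_map_apply, ModuleCat.freeDesc_apply, ModuleCat.freeDesc_apply]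
        show N.obj.map (k.unop ≫ g.down).op s = N.obj.map k (N.obj.map g.down.op s)
        rw [← ConcreteCategory.comp_apply, ← Functor.map_comp]
        rfl }
  refine ⟨⟨sheafifyLift X.smallEtaleTopology p N.property⟩, ?_⟩
  refine ((ConcreteCategory.comp_apply _ _ _).symm.trans (congrArg (fun t => t.app (op U)
    (ModuleCat.freeMk (ULift.up (𝟙 U)))) (toSheafify_sheafifyLift X.smallEtaleTopology p N.property))).trans ?_
  show ModuleCat.freeDesc _ (ModuleCat.freeMk _) = s
  rw [ModuleCat.freeDesc_apply]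
  show N.obj.map (𝟙 U).op s = s
  rw [op_id, N.obj.map_id]
  rfl

variable (Λ U) in
theorem existsUnique_stalk {Ω : Type u} [Field Ω] [IsSepClosed Ω] (ξ : Spec (CommRingCat.of Ω) ⟶ X)
    {N : ModuleCat.{u + 1} Λ} (b : Fib ξ U → N) :
    ∃! h : (stk (A := ModuleCat.{u + 1} Λ) ξ).obj (freeSh Λ U) ⟶ N,
      ∀ v, h (germ ξ (freeSh Λ U) U v (gen Λ U)) = b v := by
  let sadj := (pt ξ).skyscraperSheafAdjunction (A := ModuleCat.{u + 1} Λ)
  have key : ∀ (h : (stk (A := ModuleCat.{u + 1} Λ) ξ).obj (freeSh Λ U) ⟶ N) (v : Fib ξ U),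
      genHom Λ U ≫ (sadj.homEquiv _ N h).hom.app (op U) ≫ Pi.π _ v = genHom Λ U ≫ germ ξ _ U v ≫ h :=
    fun h v => congrArg (genHom Λ U ≫ ·)
      ((congrArg (fun (t : (freeSh Λ U).obj ⟶ (pt ξ).skyscraperPresheaf N) => t.app (op U) ≫ Pi.π _ v)
        ((pt ξ).skyscraperSheafAdjunction_homEquiv_apply_hom h)).trans
          ((pt ξ).skyscraperPresheafHomEquiv_app_π h U v))
  let s : ModuleCat.of Λ Λ ⟶ ((pt ξ).skyscraperSheafFunctor.obj N).obj.obj (op U) :=
    Pi.lift fun v => ModuleCat.ofHom (LinearMap.toSpanSingleton Λ N (b v))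
  obtain ⟨a, ha⟩ := exists_hom (N := (pt ξ).skyscraperSheafFunctor.obj N) (s (1 : Λ))
  have ha' : genHom Λ U ≫ a.hom.app (op U) = s := ModuleCat.hom_ext (LinearMap.ext_ring
    ((congrArg (a.hom.app (op U)) (genHom_one Λ U)).trans ha))
  have he : ∀ (h : (stk (A := ModuleCat.{u + 1} Λ) ξ).obj (freeSh Λ U) ⟶ N) (v : Fib ξ U),
      h (germ ξ (freeSh Λ U) U v (gen Λ U)) = b v ↔
        genHom Λ U ≫ germ ξ _ U v ≫ h = ModuleCat.ofHom (LinearMap.toSpanSingleton Λ N (b v)) := fun h v => by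
    refine ⟨fun e => ModuleCat.hom_ext (LinearMap.ext_ring ?_), fun e => ?_⟩
    · show h (germ ξ (freeSh Λ U) U v (genHom Λ U (1 : Λ))) = (1 : Λ) • b v
      rw [genHom_one, one_smul, e]
    · have := congrArg (fun t : ModuleCat.of Λ Λ ⟶ N => t (1 : Λ)) e
      refine ((congrArg (fun t => h (germ ξ (freeSh Λ U) U v t)) (genHom_one Λ U)).symm.trans this).trans ?_
      exact one_smul _ _
  refine ⟨(sadj.homEquiv _ N).symm a, fun v => (he _ v).2 ?_, fun h' hh' => (sadj.homEquiv _ N).injective ?_⟩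
  · rw [← key, Equiv.apply_symm_apply, ← Category.assoc, ha']
    exact limit.lift_π _ _
  · rw [Equiv.apply_symm_apply]
    refine hom_ext ?_
    have e : genHom Λ U ≫ (sadj.homEquiv _ N h').hom.app (op U) = genHom Λ U ≫ a.hom.app (op U) := by
      rw [ha']
      refine Pi.hom_ext _ _ fun v => ?_
      rw [Category.assoc, key, (he h' v).1 (hh' v)]
      exact (limit.lift_π (Fan.mk _ fun v => ModuleCat.ofHom (LinearMap.toSpanSingleton Λ N (b v))) ⟨v⟩).symm
    have e1 := congrArg (fun t : ModuleCat.of Λ Λ ⟶ _ => t (1 : Λ)) e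
    exact ((congrArg ((sadj.homEquiv _ N h').hom.app (op U)) (genHom_one Λ U)).symm.trans e1).trans
      (congrArg (a.hom.app (op U)) (genHom_one Λ U))

variable (Λ U) in
/-- The stalks are free on the lifts. -/
noncomputable def stalkDesc {Ω : Type u} [Field Ω] [IsSepClosed Ω] (ξ : Spec (CommRingCat.of Ω) ⟶ X)
    {N : ModuleCat.{u + 1} Λ} (b : Fib ξ U → N) : (stk (A := ModuleCat.{u + 1} Λ) ξ).obj (freeSh Λ U) ⟶ N :=
  (existsUnique_stalk Λ U ξ b).choose

theorem stalkDesc_germ {Ω : Type u} [Field Ω] [IsSepClosed Ω] (ξ : Spec (CommRingCat.of Ω) ⟶ X)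
    {N : ModuleCat.{u + 1} Λ} (b : Fib ξ U → N) (v : Fib ξ U) :
    stalkDesc Λ U ξ b (germ ξ (freeSh Λ U) U v (gen Λ U)) = b v :=
  (existsUnique_stalk Λ U ξ b).choose_spec.1 v

variable (Λ U) in
theorem bijective_comb {Ω : Type u} [Field Ω] [IsSepClosed Ω] (ξ : Spec (CommRingCat.of Ω) ⟶ X) :
    Function.Bijective (Finsupp.linearCombination Λ
      fun v : Fib ξ U => (germ ξ (freeSh Λ U) U v (gen Λ U) : (stk (A := ModuleCat.{u + 1} Λ) ξ).obj (freeSh Λ U))) := by
  let L := Finsupp.linearCombination Λ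
    fun v : Fib ξ U => (germ ξ (freeSh Λ U) U v (gen Λ U) : (stk (A := ModuleCat.{u + 1} Λ) ξ).obj (freeSh Λ U))
  let N : ModuleCat.{u + 1} Λ := ModuleCat.of Λ (Fib ξ U →₀ Λ)
  let d := stalkDesc Λ U ξ (N := N) fun v => Finsupp.single v (1 : Λ)
  have h1 : d.hom ∘ₗ L = LinearMap.id := Finsupp.lhom_ext fun v c => by
    show d (L (Finsupp.single v c)) = Finsupp.single v c
    rw [Finsupp.linearCombination_single, map_smul]
    refine (congrArg (c • ·) (stalkDesc_germ ξ (N := N) _ v)).trans ?_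
    exact (Finsupp.smul_single c v (1 : Λ)).trans (by rw [smul_eq_mul, mul_one])
  have h2 : d ≫ ModuleCat.ofHom L = 𝟙 _ := (existsUnique_stalk Λ U ξ
      (fun v => germ ξ (freeSh Λ U) U v (gen Λ U))).unique (fun v => by
    show L (d (germ ξ (freeSh Λ U) U v (gen Λ U))) = _
    rw [stalkDesc_germ ξ (N := N) _ v]
    exact (Finsupp.linearCombination_single Λ 1 v).trans (one_smul _ _)) fun v => rfl
  exact Function.bijective_iff_has_inverse.2 ⟨d.hom, fun p => LinearMap.congr_fun h1 p,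
    fun p => congrArg (fun t : (stk (A := ModuleCat.{u + 1} Λ) ξ).obj (freeSh Λ U) ⟶ _ => t p) h2⟩

variable (Λ U) in
theorem flat_stalk {Ω : Type u} [Field Ω] [IsSepClosed Ω] (ξ : Spec (CommRingCat.of Ω) ⟶ X) :
    Module.Flat Λ ((stk (A := ModuleCat.{u + 1} Λ) ξ).obj (freeSh Λ U)) :=
  Module.Flat.of_linearEquiv (LinearEquiv.ofBijective _ (bijective_comb Λ U ξ)).symm

variable (Λ U) in
theorem lc_pull {T : Scheme.{u}} (g : T ⟶ X) (hs : Splits g U) :
    LC (A := ModuleCat.{u + 1} Λ) FinMP ((pullA g (ModuleCat.{u + 1} Λ)).obj (freeSh Λ U)) := by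
  intro x
  obtain ⟨Ω, _, _, ζ, rfl⟩ := exists_geometric_pt x
  obtain ⟨hfin, W, w, s, hsw, hbij⟩ := hs Ω ζ
  haveI := hfin
  let H := (pullA g (ModuleCat.{u + 1} Λ)).obj (freeSh Λ U)
  let e : Fib (ζ ≫ g) U → H.obj.obj (op W) := fun u =>
    H.obj.map (s u).op (((adjA g (ModuleCat.{u + 1} Λ)).unit.app (freeSh Λ U)).hom.app (op U) (gen Λ U))
  let η : ModuleCat.of Λ (Fib (ζ ≫ g) U →₀ Λ) ⟶ H.obj.obj (op W) :=
    ModuleCat.ofHom (Finsupp.linearCombination Λ e)
  refine ⟨W, w.pt, _, η, congrArg (fun t : Spec (CommRingCat.of Ω) ⟶ T => t.base default) w.w,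
    inferInstanceAs (Module.Finite Λ (Fib (ζ ≫ g) U →₀ Λ)), fun Ω' _ _ ζ' w' => ?_⟩
  let φ : Fib (ζ ≫ g) U ≃ Fib (ζ' ≫ g) U := Equiv.ofBijective _ (hbij Ω' ζ' w')
  let q := (stalkPull g ζ' (ModuleCat.{u + 1} Λ)).hom.app (freeSh Λ U)
  let G := Finsupp.linearCombination Λ fun v : Fib (ζ' ≫ g) U =>
    (germ (ζ' ≫ g) (freeSh Λ U) U v (gen Λ U) : (stk (A := ModuleCat.{u + 1} Λ) (ζ' ≫ g)).obj (freeSh Λ U))
  have key : (η ≫ germ ζ' H W w').hom = q.hom ∘ₗ G ∘ₗ (Finsupp.domLCongr φ).toLinearMap := by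
    refine Finsupp.lhom_ext fun u c => ?_
    show germ ζ' H W w' (Finsupp.linearCombination Λ e (Finsupp.single u c)) =
      q (G ((Finsupp.domLCongr φ) (Finsupp.single u c)))
    rw [Finsupp.domLCongr_single, Finsupp.linearCombination_single, Finsupp.linearCombination_single, map_smul,
      map_smul]
    refine congrArg (c • ·) ?_
    rw [germ_res_apply, ← show Fib.lift g ζ' (φ u) = w'.map (s u) from Fib.lift_proj g ζ' _]
    exact (congrArg (fun t => t (gen Λ U))
      (germ_stalkPull g ζ' (ModuleCat.{u + 1} Λ) (freeSh Λ U) U (φ u))).symm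
  refine (ConcreteCategory.isIso_iff_bijective _).2 ?_
  show Function.Bijective (η ≫ germ ζ' H W w').hom
  rw [key]
  exact (ConcreteCategory.bijective_of_isIso q).comp
    ((bijective_comb Λ U (ζ' ≫ g)).comp (Finsupp.domLCongr φ).bijective)

variable (Λ U) in
theorem isCons [CompactSpace X] [QuasiSeparatedSpace X] [CompactSpace U.left] [QuasiSeparatedSpace U.left] :
    IsCons (A := ModuleCat.{u + 1} Λ) FinMP (freeSh Λ U) := by
  choose T g hi hx hc hs using exists_split_strata U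
  obtain ⟨t, ht⟩ := exists_finite_subcover_constructible (fun x => Set.range (g x)) hc
    (Set.eq_univ_of_forall fun x => Set.mem_iUnion.2 ⟨x, hx x⟩)
  haveI : ∀ i : t, IsImmersion (g i.1) := fun i => hi i.1
  refine isCons_of_adapted_univ (adapted_of_cover isOpen_univ (fun i : t => T i.1) (fun i => g i.1)
    (fun i => (hc i.1).preimage_of_isOpenEmbedding isOpen_univ.isOpenEmbedding_subtypeVal) (fun x _ => ?_)
    fun i => lc_pull Λ U (g i.1) (hs i.1))
  obtain ⟨i, hi', hxi⟩ := Set.mem_iUnion₂.1 (ht.ge (Set.mem_univ x))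
  exact Set.mem_iUnion.2 ⟨⟨i, hi'⟩, hxi⟩

end Groth.Agent.ModGenLib
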