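import Groth.Agent.ModGenLib.Gen
import Groth.Agent.EtShLib.NoethCons
import Mathlib.CategoryTheory.Subobject.NoetherianObject
import Mathlib.CategoryTheory.Abelian.Images

/-! Constructible sheaves of modules on Noetherian schemes are Noetherian objects. -/

set_option autoImplicit false
set_option linter.unusedSectionVars false
set_option linter.style.haveILetI false
set_option backward.isDefEq.respectTransparency false
set_option backward.isDefEq.respectTransparency.types false
set_option synthInstance.maxHeartbeats 400000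
set_option maxHeartbeats 1000000

universe u

open CategoryTheory CategoryTheory.Limits AlgebraicGeometry Opposite Topology

namespace Groth.Agent.ModGenLib

open Groth.Agent.EtShLib

variable {Λ : Type (u + 1)} [CommRing Λ] [IsNoetherianRing Λ] {X : Scheme.{u}} [IsNoetherian X]

theorem subobject_stationary {F : EtModW.Mod Λ X} (hF : IsCons (A := ModuleCat.{u + 1} Λ) FinMP F)
    (c : ℕ →o Subobject F) : ∃ N, ∀ m, N ≤ m → c N = c m := by
  classical
  let K : ℕ → EtModW.Mod Λ X := fun n => (c n : EtModW.Mod Λ X)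
  haveI : HasCoproduct fun n : ULift.{u + 1} ℕ => K n.down :=
    haveI := IsGrothendieckAbelian.hasColimits (EtModW.Mod Λ X)
    inferInstance
  let s : (∐ fun n : ULift.{u + 1} ℕ => K n.down) ⟶ F := Sigma.desc fun n => (c n.down).arrow
  let L := Abelian.image s
  let ι : ∀ n, K n ⟶ L := fun n => Sigma.ι (fun n : ULift.{u + 1} ℕ => K n.down) ⟨n⟩ ≫ Abelian.factorThruImage s
  have hι : ∀ n, ι n ≫ Abelian.image.ι s = (c n).arrow := fun n => by
    simp only [ι, Category.assoc, Abelian.image.fac, s]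
    exact colimit.ι_desc _ _
  have hιι : ∀ {n m} (h : n ≤ m), Subobject.ofLE _ _ (c.monotone h) ≫ ι m = ι n := fun {n m} h => by
    rw [← cancel_mono (Abelian.image.ι s), Category.assoc, hι, hι, Subobject.ofLE_arrow]
  have hL : IsCons (A := ModuleCat.{u + 1} Λ) FinMP L := consMod_of_mono (Abelian.image.ι s) hF
  have hK : ∀ n, IsCons (A := ModuleCat.{u + 1} Λ) FinMP (K n) := fun n => consMod_of_mono (c n).arrow hF
  let Q : ℕ → EtModW.Mod Λ X := fun n => cokernel (ι n)
  have hQ : ∀ n, IsCons (A := ModuleCat.{u + 1} Λ) FinMP (Q n) := fun n => consMod_cokernel _ (hK n) hL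
  have key : ∀ (Ω : Type u) [Field Ω] [IsSepClosed Ω] (ξ : Spec (CommRingCat.of Ω) ⟶ X), ∃ n,
      Epi ((stk (A := ModuleCat.{u + 1} Λ) ξ).map (ι n)) := by
    intro Ω _ _ ξ
    let S := stk (A := ModuleCat.{u + 1} Λ) ξ
    haveI : Module.Finite Λ (S.obj L) := finite_stalk hL ξ
    let R : ℕ →o Submodule Λ (S.obj L) := ⟨fun n => LinearMap.range (S.map (ι n)).hom, fun n m h => by
      rintro _ ⟨p, rfl⟩
      refine ⟨S.map (Subobject.ofLE _ _ (c.monotone h)) p, ?_⟩
      rw [← ConcreteCategory.comp_apply, ← Functor.map_comp, hιι h]⟩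
    haveI : _root_.IsNoetherian Λ (S.obj L) := isNoetherian_of_isNoetherianRing_of_finite Λ _
    obtain ⟨N, hN⟩ := monotone_stabilizes_iff_noetherian.2 (inferInstance : _root_.IsNoetherian Λ (S.obj L)) R
    refine ⟨N, (ModuleCat.epi_iff_range_eq_top _).2 (eq_top_iff.2 fun p _ => ?_)⟩
    let q : S.obj L ⟶ ModuleCat.of Λ ((S.obj L) ⧸ R N) := ModuleCat.ofHom (R N).mkQ
    have h0 : S.map (Abelian.factorThruImage s) ≫ q = 0 := by
      haveI := IsGrothendieckAbelian.hasColimits (EtModW.Mod Λ X)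
      refine (isColimitOfPreserves S (coproductIsCoproduct fun n : ULift.{u + 1} ℕ => K n.down)).hom_ext
        fun ⟨⟨n⟩⟩ => ?_
      show S.map (Sigma.ι (fun n : ULift.{u + 1} ℕ => K n.down) ⟨n⟩) ≫ S.map (Abelian.factorThruImage s) ≫ q =
        S.map (Sigma.ι (fun n : ULift.{u + 1} ℕ => K n.down) ⟨n⟩) ≫ 0
      rw [comp_zero, ← Functor.map_comp_assoc]
      refine ModuleCat.hom_ext (LinearMap.ext fun x => (Submodule.Quotient.mk_eq_zero _).2 ?_)
      rcases le_total n N with h | h
      · exact R.monotone h ⟨x, rfl⟩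
      · rw [hN n h]; exact ⟨x, rfl⟩
    haveI : Epi (S.map (Abelian.factorThruImage s)) := inferInstance
    have hq : q = 0 := by rw [← cancel_epi (S.map (Abelian.factorThruImage s)), h0, comp_zero]
    exact (Submodule.Quotient.mk_eq_zero _).1 (congrArg (fun t => t p) hq)
  obtain ⟨Ω, iF, iS, ξ, hξ⟩ : ∃ (Ω : X → Type u) (iF : ∀ x, Field (Ω x)) (iS : ∀ x, IsSepClosed (Ω x))
      (ξ : ∀ x, Spec (CommRingCat.of (Ω x)) ⟶ X), ∀ x, (ξ x).base default = x := by
    choose Ω iF iS ξ hξ using fun x : X => exists_geometric_pt x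
    exact ⟨Ω, iF, iS, ξ, hξ⟩
  have hz : ∀ {n} {Ω : Type u} [Field Ω] [IsSepClosed Ω] (ξ : Spec (CommRingCat.of Ω) ⟶ X),
      Epi ((stk (A := ModuleCat.{u + 1} Λ) ξ).map (ι n)) ↔ IsZero ((stk (A := ModuleCat.{u + 1} Λ) ξ).obj (Q n)) := by
    intro n Ω _ _ ξ
    let S := stk (A := ModuleCat.{u + 1} Λ) ξ
    haveI : PreservesColimit (parallelPair (ι n) 0) S := inferInstance
    exact ⟨fun _ => (isZero_cokernel_of_epi (S.map (ι n))).of_iso (PreservesCokernel.iso S (ι n)),
      fun h => Abelian.epi_of_cokernel_π_eq_zero _ ((h.of_iso (PreservesCokernel.iso S (ι n)).symm).eq_of_tgt _ _)⟩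
  choose k hk using fun x : X => @key (Ω x) (iF x) (iS x) (ξ x)
  obtain ⟨t, ht⟩ := exists_finite_subcover_constructible (fun x => (msupp (Q (k x)))ᶜ)
    (fun x => ((isLocallyConstructible_supp (hQ (k x))).isConstructible).compl)
    (Set.eq_univ_of_forall fun x => Set.mem_iUnion.2 ⟨x, by
      rintro ⟨Ω', _, _, ξ', hr, hne⟩
      exact hne (@isZero_stalk_congr Λ _ X _ (hQ _) (Ω x) Ω' (iF x) (iS x) _ _ (ξ x) ξ'
        ((hξ x).trans ((hr.subset ⟨default, rfl⟩).symm)) ((@hz _ (Ω x) (iF x) (iS x) (ξ x)).1 (hk x)))⟩)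
  refine ⟨t.sup k, fun m hm => le_antisymm (c.monotone hm) ?_⟩
  let i := Subobject.ofLE _ _ (c.monotone hm)
  haveI : IsIso i := isIso_of_stalks (A := ModuleCat.{u + 1} Λ) i fun Ω' _ _ ξ' => by
    let S := stk (A := ModuleCat.{u + 1} Λ) ξ'
    obtain ⟨x, hx, hmem⟩ := Set.mem_iUnion₂.1 (ht.ge (Set.mem_univ (ξ'.base default)))
    have hz0 : IsZero (S.obj (Q (k x))) := by
      by_contra hne
      exact hmem ⟨Ω', inferInstance, inferInstance, ξ', range_eq_singleton _, hne⟩
    haveI := (hz ξ').2 hz0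
    have hle : k x ≤ t.sup k := Finset.le_sup hx
    haveI : Mono (ι m) := mono_of_mono_fac (hι m)
    haveI : Mono (S.map (ι m)) := inferInstance
    have h1 : Epi (S.map i ≫ S.map (ι m)) := by
      rw [← Functor.map_comp, hιι hm]
      have : Epi (S.map (Subobject.ofLE _ _ (c.monotone hle)) ≫ S.map (ι (t.sup k))) := by
        rw [← Functor.map_comp, hιι hle]; infer_instance
      exact epi_of_epi (S.map (Subobject.ofLE _ _ (c.monotone hle))) _
    haveI : Epi (S.map (ι m)) := epi_of_epi (S.map i) _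
    haveI : IsIso (S.map (ι m)) := isIso_of_mono_of_epi _
    haveI : Epi (S.map i) := by
      have : Epi ((S.map i ≫ S.map (ι m)) ≫ inv (S.map (ι m))) := inferInstance
      simpa using this
    exact isIso_of_mono_of_epi _
  exact Subobject.le_of_comm (inv i) (by rw [IsIso.inv_comp_eq, Subobject.ofLE_arrow])

theorem isNoetherianObject_of_isCons {F : EtModW.Mod Λ X} (hF : IsCons (A := ModuleCat.{u + 1} Λ) FinMP F) :
    IsNoetherianObject F :=
  (isNoetherianObject_iff_monotone_chain_condition (X := F)).2 (subobject_stationary hF)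

end Groth.Agent.ModGenLib
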