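import Groth.Agent.ModGenLib.Gen
import Groth.Agent.EtShLib.ExtBC
import Groth.Prelude.Def_EtModD2
import Groth.Prelude.Def_SixF2
import Mathlib.Algebra.Homology.DerivedCategory.ExactFunctor
import Mathlib.Algebra.Homology.DerivedCategory.FullyFaithful
import Mathlib.Algebra.Homology.SingleHomology

/-! Extension by zero of constructible sheaves of modules. -/

set_option autoImplicit false
set_option linter.unusedSectionVars false
set_option linter.style.haveILetI false
set_option backward.isDefEq.respectTransparency false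
set_option backward.isDefEq.respectTransparency.types false
set_option synthInstance.maxHeartbeats 400000
set_option maxHeartbeats 1000000

universe u

open CategoryTheory CategoryTheory.Limits AlgebraicGeometry Opposite Topology

namespace Groth.Agent.ModGenLib

open Groth.Agent.EtShLib

attribute [local instance] Abelian.hasFiniteBiproducts

variable (Λ : Type (u + 1)) [CommRing Λ] {X : Scheme.{u}}

/-- Maps out of a free sheaf are sections. -/
noncomputable def secEquiv (U : X.Etale) (N : EtModW.Mod Λ X) : (freeSh Λ U ⟶ N) ≃ N.obj.obj (op U) :=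
  Equiv.ofBijective (fun a => a.hom.app (op U) (gen Λ U)) ⟨fun _ _ h => hom_ext h, fun s => exists_hom s⟩

variable {Λ}

theorem nonempty_iso_of_sec {U : X.Etale} {E : EtModW.Mod Λ X}
    (eq : ∀ N : EtModW.Mod Λ X, (E ⟶ N) ≃ N.obj.obj (op U))
    (h : ∀ {N N' : EtModW.Mod Λ X} (a : E ⟶ N) (c : N ⟶ N'), eq N' (a ≫ c) = c.hom.app (op U) (eq N a)) :
    Nonempty (E ≅ freeSh Λ U) := by
  let f := (secEquiv Λ U E).symm (eq E (𝟙 E))
  have hf : f.hom.app (op U) (gen Λ U) = eq E (𝟙 E) := (secEquiv Λ U E).apply_symm_apply _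
  let g := (eq (freeSh Λ U)).symm (gen Λ U)
  have hg : eq _ g = gen Λ U := (eq (freeSh Λ U)).apply_symm_apply _
  refine ⟨⟨g, f, (eq E).injective ?_, hom_ext ?_⟩⟩
  · rw [h, hg, hf]
  · show g.hom.app (op U) (f.hom.app (op U) (gen Λ U)) = gen Λ U
    rw [hf, ← h, Category.id_comp, hg]

theorem nonempty_freeSh_congr {U U' : X.Etale} (e : U ≅ U') : Nonempty (freeSh Λ U' ≅ freeSh Λ U) := by
  refine nonempty_iso_of_sec (fun N => (secEquiv Λ U' N).trans (N.obj.mapIso e.op).toLinearEquiv.toEquiv)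
    fun {N N'} a c => ?_
  show N'.obj.map e.hom.op ((a ≫ c).hom.app (op U') (gen Λ U')) =
    c.hom.app (op U) (N.obj.map e.hom.op (a.hom.app (op U') (gen Λ U')))
  exact (NatTrans.naturality_apply c.hom e.hom.op _).symm

section

variable {V : Scheme.{u}} (j : V ⟶ X) [AlgebraicGeometry.Etale j] [EtShriek.JCont j]

theorem nonempty_extZero_freeSh (W : V.Etale) :
    Nonempty ((EtSix.extZeroMod Λ j).obj (freeSh Λ W) ≅ freeSh Λ ((EtShriek.compEtale j).obj W)) :=
  nonempty_iso_of_sec (fun N => ((EtSix.extZeroModAdj Λ j).homEquiv _ N).trans (secEquiv Λ W _)) fun a c => by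
    show secEquiv Λ W _ ((EtSix.extZeroModAdj Λ j).homEquiv _ _ (a ≫ c)) = _
    rw [Adjunction.homEquiv_naturality_right]
    rfl

theorem nonempty_constΛ : Nonempty (EtSix.constΛ Λ V ≅ freeSh Λ (EtCoh.top V)) := by
  have hterm : IsTerminal (EtCoh.top V) :=
    IsTerminal.ofUniqueHom (fun W => MorphismProperty.Over.homMk W.hom (Category.comp_id _)) fun W m =>
      MorphismProperty.Over.Hom.ext ((Category.comp_id _).symm.trans (MorphismProperty.Over.w m))
  let adj := constantSheafAdj V.smallEtaleTopology (ModuleCat.{u + 1} Λ) hterm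
  refine nonempty_iso_of_sec (fun N => (adj.homEquiv (ModuleCat.of Λ Λ) N).trans
    ((ModuleCat.homEquiv (R := Λ)).trans (LinearMap.ringLmapEquivSelf Λ Λ _).toEquiv)) fun {N N'} a c => ?_
  show (adj.homEquiv _ _ (a ≫ c)).hom (1 : Λ) = c.hom.app (op (EtCoh.top V)) ((adj.homEquiv _ _ a).hom (1 : Λ))
  rw [Adjunction.homEquiv_naturality_right]
  rfl

theorem nonempty_extZero_constΛ (U : X.Etale) (e : (EtShriek.compEtale j).obj (EtCoh.top V) ≅ U) :
    Nonempty ((EtSix.extZeroMod Λ j).obj (EtSix.constΛ Λ V) ≅ freeSh Λ U) := by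
  obtain ⟨a⟩ := nonempty_constΛ (Λ := Λ) (V := V)
  obtain ⟨b⟩ := nonempty_extZero_freeSh (Λ := Λ) j (EtCoh.top V)
  obtain ⟨c⟩ := nonempty_freeSh_congr (Λ := Λ) e.symm
  exact ⟨(EtSix.extZeroMod Λ j).mapIso a ≪≫ b ≪≫ c⟩

theorem isCons_extZero_qcqs [IsNoetherianRing Λ] [CompactSpace X] [QuasiSeparatedSpace X] [CompactSpace V]
    [QuasiSeparatedSpace V] {F : EtModW.Mod Λ V} (hF : IsCons (A := ModuleCat.{u + 1} Λ) FinMP F) :
    IsCons (A := ModuleCat.{u + 1} Λ) FinMP ((EtSix.extZeroMod Λ j).obj F) := by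
  let G := EtSix.extZeroMod Λ j
  haveI : G.IsLeftAdjoint := EtSix.isLeftAdjoint_extZeroMod Λ j
  haveI : (EtSix.restrMod Λ j).Additive := { }
  haveI : G.Additive := (EtSix.extZeroModAdj Λ j).left_adjoint_additive
  have hb : ∀ {a : ℕ} (W : Fin a → V.Etale), (∀ i, IsAffine (W i).left) →
      IsCons (A := ModuleCat.{u + 1} Λ) FinMP (G.obj (⨁ fun i => freeSh Λ (W i))) := fun {a} W hW => by
    refine IsCons.of_hom (isCons_biproduct (fun i => G.obj (freeSh Λ (W i))) fun i => ?_)
      (G.mapBiproduct _).inv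
    haveI := hW i
    haveI : CompactSpace ((EtShriek.compEtale j).obj (W i)).left := inferInstanceAs (CompactSpace (W i).left)
    haveI : QuasiSeparatedSpace ((EtShriek.compEtale j).obj (W i)).left :=
      inferInstanceAs (QuasiSeparatedSpace (W i).left)
    obtain ⟨e⟩ := nonempty_extZero_freeSh (Λ := Λ) j (W i)
    exact IsCons.of_hom (isCons Λ _) e.inv
  obtain ⟨a, W, hW, π, hπ⟩ := exists_generators (𝟙 F) hF
  rw [Category.comp_id] at hπ
  have hP : IsCons (A := ModuleCat.{u + 1} Λ) FinMP (⨁ fun i => freeSh Λ (W i)) :=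
    isCons_biproduct _ fun i => haveI := hW i; isCons Λ (W i)
  obtain ⟨b, W', hW', ψ, hψ⟩ := exists_generators (𝟙 (kernel π)) (consMod_kernel π hP hF)
  rw [Category.comp_id] at hψ
  let φ := ψ ≫ kernel.ι π
  let e : F ≅ cokernel φ := ((Abelian.epiIsCokernelOfKernel _ (kernelIsKernel π)).coconePointUniqueUpToIso
    (cokernelIsCokernel (kernel.ι π))) ≪≫ (cokernelEpiComp ψ (kernel.ι π)).symm
  exact IsCons.of_hom (consMod_cokernel (G.map φ) (hb W' hW') (hb W hW))
    ((PreservesCokernel.iso G φ).symm ≪≫ G.mapIso e.symm).hom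

end

variable (Λ) in
theorem nonempty_extZeroMod_bc {V' V Y X : Scheme.{u}} {j : V ⟶ X} [AlgebraicGeometry.Etale j] {f : Y ⟶ X}
    {j' : V' ⟶ Y} [AlgebraicGeometry.Etale j'] {f' : V' ⟶ V} (h : IsPullback j' f' f j)
    [EtShriek.JCont j] [EtShriek.JCont j'] :
    Nonempty (EtModW.pull Λ f' ⋙ EtSix.extZeroMod Λ j' ≅ EtSix.extZeroMod Λ j ⋙ EtModW.pull Λ f) := by
  let e : EtSix.restrMod Λ j' ⋙ EtModW.push Λ f' ≅ EtModW.push Λ f ⋙ EtSix.restrMod Λ j := by
    letI := Functor.isContinuous_comp (EtCoh.bc f') (EtShriek.compEtale j') V.smallEtaleTopology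
      V'.smallEtaleTopology Y.smallEtaleTopology
    letI := Functor.isContinuous_comp (EtShriek.compEtale j) (EtCoh.bc f) V.smallEtaleTopology
      X.smallEtaleTopology Y.smallEtaleTopology
    exact Functor.sheafPushforwardContinuousComp' (bcCompEtale h) (ModuleCat.{u + 1} Λ) V.smallEtaleTopology
        V'.smallEtaleTopology Y.smallEtaleTopology (FG := EtShriek.compEtale j ⋙ EtCoh.bc f) ≪≫
      (Functor.sheafPushforwardContinuousComp (EtShriek.compEtale j) (EtCoh.bc f) (ModuleCat.{u + 1} Λ)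
        V.smallEtaleTopology X.smallEtaleTopology Y.smallEtaleTopology).symm
  exact ⟨Adjunction.leftAdjointUniq (((adjA f' (ModuleCat.{u + 1} Λ)).comp (EtSix.extZeroModAdj Λ j')).ofNatIsoRight e)
    ((EtSix.extZeroModAdj Λ j).comp (adjA f (ModuleCat.{u + 1} Λ)))⟩

attribute [local instance] HasDerivedCategory.standard

/-- A map from a single sheaf in degree `b` onto constructible cohomology. -/
theorem exists_single_epi [IsNoetherianRing Λ] [CompactSpace X] [QuasiSeparatedSpace X] (K : EtModD.D Λ X) (b : ℤ)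
    (hK : IsCons (A := ModuleCat.{u + 1} Λ) FinMP (EtModD.HD K b)) :
    ∃ (a : ℕ) (U : Fin a → X.Etale), (∀ i, IsAffine (U i).left) ∧
      ∃ φ : (DerivedCategory.singleFunctor (EtModW.Mod Λ X) b).obj (⨁ fun i => freeSh Λ (U i)) ⟶ K,
        Epi ((DerivedCategory.homologyFunctor (EtModW.Mod Λ X) b).map φ) := by
  let C := DerivedCategory.Q.objPreimage K
  let e : DerivedCategory.Q.obj C ≅ K := DerivedCategory.Q.objObjPreimageIso K
  let H := DerivedCategory.homologyFunctor (EtModW.Mod Λ X) b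
  let γ := DerivedCategory.homologyFunctorFactors (EtModW.Mod Λ X) b
  have hC : IsCons (A := ModuleCat.{u + 1} Λ) FinMP (C.homology b) :=
    hK.of_hom ((H.mapIso e).symm ≪≫ γ.app C).hom
  obtain ⟨a, U, hU, w, hw⟩ := exists_generators (C.homologyπ b) hC
  let A : EtModW.Mod Λ X := ⨁ fun i => freeSh Λ (U i)
  let f : (HomologicalComplex.single (EtModW.Mod Λ X) (ComplexShape.up ℤ) b).obj A ⟶ C :=
    HomologicalComplex.mkHomFromSingle (w ≫ C.iCycles b) fun k _ => by simp
  have hc : (HomologicalComplex.singleObjCyclesSelfIso (ComplexShape.up ℤ) b A).inv ≫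
      HomologicalComplex.cyclesMap f b = w := by
    rw [← cancel_mono (C.iCycles b), Category.assoc, HomologicalComplex.cyclesMap_i,
      HomologicalComplex.singleObjCyclesSelfIso_inv_iCycles_assoc, HomologicalComplex.mkHomFromSingle_f]
    simp
  haveI : Epi (HomologicalComplex.homologyMap f b) := by
    refine epi_of_epi_fac (f := (HomologicalComplex.singleObjHomologySelfIso (ComplexShape.up ℤ) b A).inv)
      (h := w ≫ C.homologyπ b) ?_
    rw [← HomologicalComplex.singleObjCyclesSelfIso_inv_homologyπ, Category.assoc,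
      HomologicalComplex.homologyπ_naturality, ← Category.assoc, hc]
  refine ⟨a, U, hU, ((DerivedCategory.singleFunctorIsoCompQ (EtModW.Mod Λ X) b).app A).hom ≫
    DerivedCategory.Q.map f ≫ e.hom, ?_⟩
  haveI : Epi (H.map (DerivedCategory.Q.map f)) := by
    have h := γ.hom.naturality f
    have h' : H.map (DerivedCategory.Q.map f) = γ.hom.app _ ≫ HomologicalComplex.homologyMap f b ≫ γ.inv.app C := by
      rw [← Category.assoc, ← Iso.app_inv, Iso.eq_comp_inv]
      exact h
    rw [h']
    infer_instance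
  rw [Functor.map_comp, Functor.map_comp]
  infer_instance

end Groth.Agent.ModGenLib
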