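import Groth.Agent.ModGenLib.Free
import Groth.Agent.EtShLib.Generate
import Groth.Agent.EtShLib.Locus
import Mathlib.RingTheory.Flat.Stability

/-! Constructible sheaves of modules are quotients of finite sums of free sheaves. -/

set_option autoImplicit false
set_option linter.unusedSectionVars false
set_option linter.style.haveILetI false
set_option backward.isDefEq.respectTransparency false
set_option backward.isDefEq.respectTransparency.types false
set_option synthInstance.maxHeartbeats 400000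
set_option maxHeartbeats 1000000

universe u

open CategoryTheory CategoryTheory.Limits AlgebraicGeometry Opposite Topology

namespace Groth.Agent.ModGenLib

open Groth.Agent.EtShLib
open scoped ZeroObject

attribute [local instance] Abelian.hasFiniteBiproducts

variable {Λ : Type (u + 1)} [CommRing Λ] {X : Scheme.{u}}

/-- The support of a sheaf of modules. -/
def msupp (F : EtModW.Mod Λ X) : Set X :=
  {x | ∃ (Ω : Type u) (_ : Field Ω) (_ : IsSepClosed Ω) (ξ : Spec (CommRingCat.of Ω) ⟶ X),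
    Set.range ξ = {x} ∧ ¬ IsZero ((stk (A := ModuleCat.{u + 1} Λ) ξ).obj F)}

theorem isLocallyConstructible_supp {F : EtModW.Mod Λ X} (hF : IsCons (A := ModuleCat.{u + 1} Λ) FinMP F) :
    IsLocallyConstructible (msupp F) := by
  intro x
  obtain ⟨U, hU, hxU, -⟩ := exists_isAffineOpen_mem_and_subset (X := X) (x := x) (U := ⊤) trivial
  refine ⟨U, U.isOpen.mem_nhds hxU, U.isOpen, ?_⟩
  show IsConstructible ((Subtype.val : ↥(U : Set X) → X) ⁻¹' msupp F)
  obtain ⟨n, T, g, hi, hc, hd, hu, hl⟩ := hF U hU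
  haveI : IsAffine U.toScheme := hU
  haveI : CompactSpace ↥(U : Set X) := inferInstanceAs (CompactSpace U.toScheme)
  haveI : QuasiSeparatedSpace ↥(U : Set X) := inferInstanceAs (QuasiSeparatedSpace U.toScheme)
  haveI : PrespectralSpace ↥(U : Set X) := inferInstanceAs (PrespectralSpace U.toScheme)
  have key : ∀ i, IsConstructible ((Subtype.val : ↥(U : Set X) → X) ⁻¹' (msupp F ∩ Set.range (g i))) := by
    intro i
    choose V y M η hy hM hη using hl i
    let N : Set (T i) := ⋃ t : {t : T i // ¬ IsZero (M t)}, Set.range (V t.1).hom.base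
    let N' : Set (T i) := ⋃ t : {t : T i // IsZero (M t)}, Set.range (V t.1).hom.base
    have hNN' : Disjoint N N' := Set.disjoint_left.2 fun z hz hz' => by
      obtain ⟨a, ha⟩ := Set.mem_iUnion.1 hz
      obtain ⟨b, hb⟩ := Set.mem_iUnion.1 hz'
      obtain ⟨e⟩ := (hη a.1).nonempty_iso (hη b.1) ha hb
      exact a.2 (b.2.of_iso e)
    have hNu : ∀ t, t ∈ N ∨ t ∈ N' := fun t => by
      by_cases h : IsZero (M t)
      · exact Or.inr (Set.mem_iUnion.2 ⟨⟨t, h⟩, y t, hy t⟩)
      · exact Or.inl (Set.mem_iUnion.2 ⟨⟨t, h⟩, y t, hy t⟩)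
    have hN : IsOpen N := isOpen_iUnion fun t => isOpen_range_etale _
    have hNc : IsClosed N := by
      rw [← isOpen_compl_iff, show Nᶜ = N' from subset_antisymm (fun t ht => (hNu t).resolve_left ht)
        (fun t ht ht' => Set.disjoint_left.1 hNN' ht' ht)]
      exact isOpen_iUnion fun t => isOpen_range_etale _
    have hsupp : msupp F ∩ Set.range (g i) = (g i) '' N := by
      refine subset_antisymm ?_ ?_
      · rintro x ⟨⟨Ω, _, _, ξ, hξ, hne⟩, hxr⟩
        have hx : ξ.base default = x := hξ.subset ⟨default, rfl⟩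
        haveI := hi i
        obtain ⟨ζ, rfl⟩ := exists_factor (g i) ξ (hx ▸ hxr)
        refine ⟨ζ.base default, (hNu _).resolve_right fun hN' => hne ?_, hx⟩
        obtain ⟨⟨t, ht⟩, hh⟩ := Set.mem_iUnion.1 hN'
        obtain ⟨v⟩ := exists_fib_of_range ζ hh
        haveI := hη t Ω ζ v
        exact (ht.of_iso (asIso (η t ≫ germ ζ _ (V t) v)).symm).of_iso
          ((stalkPull (g i) ζ (ModuleCat.{u + 1} Λ)).app F)
      · rintro _ ⟨s, hs, rfl⟩
        obtain ⟨Ω, _, _, ζ, rfl⟩ := exists_geometric_pt s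
        refine ⟨⟨Ω, inferInstance, inferInstance, ζ ≫ g i, range_eq_singleton _, fun hz => ?_⟩, _, rfl⟩
        obtain ⟨⟨t, ht⟩, hh⟩ := Set.mem_iUnion.1 hs
        obtain ⟨v⟩ := exists_fib_of_range ζ hh
        haveI := hη t Ω ζ v
        exact ht ((hz.of_iso ((stalkPull (g i) ζ (ModuleCat.{u + 1} Λ)).app F).symm).of_iso
          (asIso (η t ≫ germ ζ _ (V t) v)))
    rw [hsupp]
    haveI := hi i
    let r : Set ↥(U : Set X) := (Subtype.val : ↥(U : Set X) → X) ⁻¹' Set.range (g i)
    have hsub : Set.range (g i) ⊆ (U : Set X) := hu ▸ Set.subset_iUnion (fun i => Set.range (g i)) i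
    haveI : CompactSpace (T i) := by
      have h1 : IsCompact (Set.range (g i)) := by
        have := (isCompact_of_isConstructible (hc i)).image continuous_subtype_val
        rwa [Set.image_preimage_eq_inter_range, Subtype.range_coe, Set.inter_eq_left.2 hsub] at this
      exact ⟨(g i).isEmbedding.isCompact_iff.2 (by rwa [Set.image_univ])⟩
    obtain ⟨W, hW, hWN⟩ := (g i).isEmbedding.isInducing.isOpen_iff.1 hN
    have heq : (Subtype.val : ↥(U : Set X) → X) ⁻¹' ((g i) '' N) =
        ((Subtype.val : ↥(U : Set X) → X) ⁻¹' W) ∩ r := by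
      ext ⟨z, hz⟩
      constructor
      · rintro ⟨s, hs, rfl⟩
        exact ⟨show g i s ∈ W from hWN.ge hs, ⟨s, rfl⟩⟩
      · rintro ⟨hzW, s, rfl⟩
        exact ⟨s, hWN.le hzW, rfl⟩
    rw [heq]
    refine isConstructible_inter_of_compact (hc i) (hW.preimage continuous_subtype_val) ?_
    rw [← heq, Topology.IsEmbedding.subtypeVal.isCompact_iff, Set.image_preimage_eq_inter_range, Subtype.range_coe,
      Set.inter_eq_left.2 ((Set.image_subset_range _ _).trans hsub)]
    exact hNc.isCompact.image (g i).continuous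
  have htot : (Subtype.val : ↥(U : Set X) → X) ⁻¹' msupp F =
      ⋃ i, (Subtype.val : ↥(U : Set X) → X) ⁻¹' (msupp F ∩ Set.range (g i)) := by
    rw [← Set.preimage_iUnion, ← Set.inter_iUnion, hu]
    ext ⟨z, hz⟩
    exact ⟨fun h => ⟨h, hz⟩, fun h => h.1⟩
  rw [htot]
  exact IsConstructible.iUnion key

theorem finite_stalk {F : EtModW.Mod Λ X} (hF : IsCons (A := ModuleCat.{u + 1} Λ) FinMP F)
    {Ω : Type u} [Field Ω] [IsSepClosed Ω] (ξ : Spec (CommRingCat.of Ω) ⟶ X) :
    Module.Finite Λ ((stk (A := ModuleCat.{u + 1} Λ) ξ).obj F) := by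
  obtain ⟨W, hW, hxW, -⟩ := exists_isAffineOpen_mem_and_subset (X := X) (x := ξ.base default) (U := ⊤) trivial
  obtain ⟨n, T, g, hi, -, -, hu, hl⟩ := hF W hW
  obtain ⟨i, ht⟩ := Set.mem_iUnion.1 (hu.ge hxW)
  haveI := hi i
  obtain ⟨ζ, rfl⟩ := exists_factor (g i) ξ ht
  obtain ⟨V, y, M, η, hy, hM, hη⟩ := hl i (ζ.base default)
  obtain ⟨v, -⟩ := exists_fib ζ V y hy
  haveI := hη Ω ζ v
  haveI : Module.Finite Λ M := hM
  exact Module.Finite.equiv
    (asIso (η ≫ germ ζ _ V v) ≪≫ ((stalkPull (g i) ζ (ModuleCat.{u + 1} Λ)).app F).symm).toLinearEquiv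

theorem isZero_stalk_congr {F : EtModW.Mod Λ X} (hF : IsCons (A := ModuleCat.{u + 1} Λ) FinMP F)
    {Ω Ω' : Type u} [Field Ω] [IsSepClosed Ω] [Field Ω'] [IsSepClosed Ω'] {ξ : Spec (CommRingCat.of Ω) ⟶ X}
    {ξ' : Spec (CommRingCat.of Ω') ⟶ X} (e : ξ.base default = ξ'.base default)
    (h : IsZero ((stk (A := ModuleCat.{u + 1} Λ) ξ).obj F)) :
    IsZero ((stk (A := ModuleCat.{u + 1} Λ) ξ').obj F) := by
  obtain ⟨W, hW, hxW, -⟩ := exists_isAffineOpen_mem_and_subset (X := X) (x := ξ.base default) (U := ⊤) trivial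
  obtain ⟨n, T, g, hi, -, -, hu, hl⟩ := hF W hW
  obtain ⟨i, ht⟩ := Set.mem_iUnion.1 (hu.ge hxW)
  haveI := hi i
  obtain ⟨ζ, rfl⟩ := exists_factor (g i) ξ ht
  obtain ⟨ζ', rfl⟩ := exists_factor (g i) ξ' (e ▸ ht)
  have e' : ζ.base default = ζ'.base default := (g i).isEmbedding.injective e
  obtain ⟨V, y, M, η, hy, hM, hη⟩ := hl i (ζ.base default)
  obtain ⟨v, -⟩ := exists_fib ζ V y hy
  obtain ⟨v', -⟩ := exists_fib ζ' V y (hy.trans e')
  haveI := hη Ω ζ v
  haveI := hη Ω' ζ' v'
  exact h.of_iso (((stalkPull (g i) ζ' (ModuleCat.{u + 1} Λ)).app F) ≪≫ (asIso (η ≫ germ ζ' _ V v')).symm ≪≫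
    asIso (η ≫ germ ζ _ V v) ≪≫ ((stalkPull (g i) ζ (ModuleCat.{u + 1} Λ)).app F).symm)

theorem isCons_biproduct [IsNoetherianRing Λ] {n : ℕ} (f : Fin n → EtModW.Mod Λ X) (h : ∀ i, IsCons (A := ModuleCat.{u + 1} Λ) FinMP (f i)) :
    IsCons (A := ModuleCat.{u + 1} Λ) FinMP (⨁ f) := by
  induction n with
  | zero =>
    exact isCons_of_isZero (A := ModuleCat.{u + 1} Λ) (P := FinMP) (by
      haveI := ModuleCat.subsingleton_of_isZero (isZero_zero (ModuleCat.{u + 1} Λ))
      exact inferInstanceAs (Module.Finite Λ (0 : ModuleCat.{u + 1} Λ)))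
      ((IsZero.iff_id_eq_zero _).2 (biproduct.hom_ext _ _ fun i => i.elim0))
  | succ n ih =>
    let t : Fin n → EtModW.Mod Λ X := fun i => f i.succ
    let S : ShortComplex (EtModW.Mod Λ X) := ShortComplex.mk
      (biproduct.desc fun i => biproduct.ι f i.succ : ⨁ t ⟶ ⨁ f) (biproduct.π f 0) (by
        refine biproduct.hom_ext' _ _ fun i => ?_
        rw [biproduct.ι_desc_assoc, comp_zero]
        exact biproduct.ι_π_ne f (Fin.succ_ne_zero i))
    let σ : S.Splitting :=
      { r := biproduct.lift fun i => biproduct.π f i.succ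
        s := biproduct.ι f 0
        f_r := by
          refine biproduct.hom_ext' _ _ fun i => biproduct.hom_ext _ _ fun j => ?_
          simp only [S, biproduct.ι_desc_assoc, Category.assoc, biproduct.lift_π, Category.comp_id, biproduct.ι_π]
          split_ifs with h1 h2 h2
          · rfl
          · exact absurd (Fin.succ_injective _ h1) h2
          · exact absurd (congrArg Fin.succ h2) h1
          · rfl
        s_g := biproduct.ι_π_self f 0
        id := by
          refine biproduct.hom_ext' _ _ fun i => ?_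
          rw [Preadditive.comp_add, Category.comp_id]
          refine Fin.cases ?_ (fun i => ?_) i
          · have e : biproduct.ι f 0 ≫ biproduct.lift (fun i : Fin n => biproduct.π f i.succ) = 0 :=
              biproduct.hom_ext _ _ fun j => by
                rw [Category.assoc, biproduct.lift_π, zero_comp, biproduct.ι_π_ne f (Fin.succ_ne_zero j).symm]
            show biproduct.ι f 0 ≫ biproduct.lift _ ≫ biproduct.desc _ + biproduct.ι f 0 ≫ biproduct.π f 0 ≫ _ = _
            rw [← Category.assoc, e, zero_comp, zero_add, biproduct.ι_π_self_assoc]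
          · have e : biproduct.ι f i.succ ≫ biproduct.lift (fun i : Fin n => biproduct.π f i.succ) = biproduct.ι t i :=
              biproduct.hom_ext _ _ fun j => by
                rw [Category.assoc, biproduct.lift_π]
                by_cases hij : i = j
                · subst hij; rw [biproduct.ι_π_self, biproduct.ι_π_self]
                · rw [biproduct.ι_π_ne f fun h => hij (Fin.succ_injective _ h), biproduct.ι_π_ne t hij]
            show biproduct.ι f i.succ ≫ biproduct.lift _ ≫ biproduct.desc _ + biproduct.ι f i.succ ≫ biproduct.π f 0 ≫ _ = _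
            rw [← Category.assoc, e, biproduct.ι_desc, ← Category.assoc (biproduct.ι f i.succ),
              biproduct.ι_π_ne f (Fin.succ_ne_zero i), zero_comp, add_zero] }
    exact consMod_extension σ.shortExact (ih t fun i => h i.succ) (h 0)

theorem flat_stalk_biproduct {n : ℕ} (f : Fin n → EtModW.Mod Λ X) {Ω : Type u} [Field Ω] [IsSepClosed Ω]
    (ξ : Spec (CommRingCat.of Ω) ⟶ X) (h : ∀ i, Module.Flat Λ ((stk (A := ModuleCat.{u + 1} Λ) ξ).obj (f i))) :
    Module.Flat Λ ((stk (A := ModuleCat.{u + 1} Λ) ξ).obj (⨁ f)) := by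
  haveI := h
  let S := stk (A := ModuleCat.{u + 1} Λ) ξ
  haveI : PreservesBiproduct f S := inferInstance
  haveI : ∀ i, Module.Flat Λ ((S.obj ∘ f) i) := h
  haveI : Module.Flat Λ (ModuleCat.of Λ (∀ j, (S.obj ∘ f) j)) :=
    Module.Flat.of_linearEquiv (DirectSum.linearEquivFunOnFintype Λ (Fin n) fun j => (S.obj ∘ f) j).symm
  exact Module.Flat.of_linearEquiv (S.mapBiproduct f ≪≫ ModuleCat.biproductIsoPi _).toLinearEquiv

/-- Given an epimorphism onto a constructible sheaf, finitely many affine sections of the source suffice. -/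
theorem exists_generators [IsNoetherianRing Λ] [CompactSpace X] [QuasiSeparatedSpace X]
    {A B : EtModW.Mod Λ X} (v : A ⟶ B) [Epi v] (hB : IsCons (A := ModuleCat.{u + 1} Λ) FinMP B) :
    ∃ (a : ℕ) (U : Fin a → X.Etale), (∀ i, IsAffine (U i).left) ∧
      ∃ w : (⨁ fun i => freeSh Λ (U i)) ⟶ A, Epi (w ≫ v) := by
  classical
  choose Ω iF iS ξ hξ using fun x : X => exists_geometric_pt x
  have hgen : ∀ x : X, ∃ (k : ℕ) (q : Fin k → (@stk X (Ω x) (iF x) (iS x) (ModuleCat.{u + 1} Λ) _ _ (ξ x)).obj B),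
      Submodule.span Λ (Set.range q) = ⊤ := fun x => by
    haveI := @finite_stalk Λ _ X B hB (Ω x) (iF x) (iS x) (ξ x)
    exact Module.Finite.exists_fin
  choose k q hq using hgen
  have hlift : ∀ (x : X) (i : Fin (k x)), ∃ (U : X.Etale) (_ : IsAffine U.left) (a : freeSh Λ U ⟶ A)
      (p : (@stk X (Ω x) (iF x) (iS x) (ModuleCat.{u + 1} Λ) _ _ (ξ x)).obj (freeSh Λ U)),
      (@stk X (Ω x) (iF x) (iS x) (ModuleCat.{u + 1} Λ) _ _ (ξ x)).map (a ≫ v) p = q x i := by
    intro x i
    letI := iF x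
    haveI := iS x
    obtain ⟨p, hp⟩ := (ModuleCat.epi_iff_surjective _).1
      (inferInstance : Epi ((stk (A := ModuleCat.{u + 1} Λ) (ξ x)).map v)) (q x i)
    obtain ⟨V, t, s, rfl⟩ := exists_germ (A := ModuleCat.{u + 1} Λ) (ξ x) p
    obtain ⟨W, g, w, hW, rfl⟩ := exists_affine_below' (ξ x) V t
    obtain ⟨a, ha⟩ := exists_hom (Λ := Λ) (U := W) (A.obj.map g.op s)
    refine ⟨W, hW, a, germ (ξ x) (freeSh Λ W) W w (gen Λ W), ?_⟩
    rw [Functor.map_comp, ConcreteCategory.comp_apply, germ_natural_apply, ha, germ_res_apply]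
    exact hp
  choose U hU a p hp using hlift
  haveI : ∀ x i, CompactSpace (U x i).left := fun x i => haveI := hU x i; inferInstance
  haveI : ∀ x i, QuasiSeparatedSpace (U x i).left := fun x i => haveI := hU x i; inferInstance
  let φ := fun x => (biproduct.desc fun i : Fin (k x) => a x i ≫ v :
    (⨁ fun i : Fin (k x) => freeSh Λ (U x i)) ⟶ B)
  have hQ : ∀ x, IsCons (A := ModuleCat.{u + 1} Λ) FinMP (cokernel (φ x)) := fun x =>
    consMod_cokernel (φ x) (isCons_biproduct _ fun i => isCons Λ (U x i)) hB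
  have hQ0 : ∀ x, x ∈ (msupp (cokernel (φ x)))ᶜ := fun x => by
    rintro ⟨Ω', _, _, ξ', hr, hne⟩
    refine hne (isZero_stalk_congr (hQ x) (ξ := ξ x) ((hξ x).trans ((hr.subset ⟨default, rfl⟩).symm)) ?_)
    letI := iF x
    haveI := iS x
    let S := stk (A := ModuleCat.{u + 1} Λ) (ξ x)
    haveI : Epi (S.map (cokernel.π (φ x))) := inferInstance
    refine IsZero.of_epi_eq_zero (S.map (cokernel.π (φ x))) (ModuleCat.hom_ext (LinearMap.ext_on_range (hq x) fun i => ?_))
    have e : q x i = S.map (φ x) (S.map (biproduct.ι (fun i : Fin (k x) => freeSh Λ (U x i)) i) (p x i)) := by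
      rw [← ConcreteCategory.comp_apply, ← Functor.map_comp, biproduct.ι_desc]
      exact (hp x i).symm
    show S.map (cokernel.π (φ x)) (q x i) = 0
    rw [e, ← ConcreteCategory.comp_apply (S.map (φ x)), ← Functor.map_comp, cokernel.condition, Functor.map_zero]
    rfl
  obtain ⟨t, ht⟩ := exists_finite_subcover_constructible (fun x => (msupp (cokernel (φ x)))ᶜ)
    (fun x => ((isLocallyConstructible_supp (hQ x)).isConstructible).compl)
    (Set.eq_univ_of_forall fun x => Set.mem_iUnion.2 ⟨x, hQ0 x⟩)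
  let I := Σ x : t, Fin (k x.1)
  let E := Fintype.equivFin I
  let U' : Fin (Fintype.card I) → X.Etale := fun i => U (E.symm i).1.1 (E.symm i).2
  let w : (⨁ fun i => freeSh Λ (U' i)) ⟶ A := biproduct.desc fun i => a (E.symm i).1.1 (E.symm i).2
  refine ⟨_, U', fun i => hU _ _, w, (epi_iff_stalks (A := ModuleCat.{u + 1} Λ) _).2 fun Ω' _ _ ξ' => ?_⟩
  obtain ⟨x, hx, hmem⟩ := Set.mem_iUnion₂.1 (ht.ge (Set.mem_univ (ξ'.base default)))
  let S := stk (A := ModuleCat.{u + 1} Λ) ξ'
  have hz : IsZero (S.obj (cokernel (φ x))) := by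
    by_contra hne
    exact hmem ⟨Ω', inferInstance, inferInstance, ξ', range_eq_singleton _, hne⟩
  haveI : Epi (S.map (φ x)) := by
    haveI : PreservesColimit (parallelPair (φ x) 0) S := inferInstance
    exact Abelian.epi_of_cokernel_π_eq_zero _ ((hz.of_iso (PreservesCokernel.iso S (φ x)).symm).eq_of_tgt _ _)
  let ι : (⨁ fun i : Fin (k x) => freeSh Λ (U x i)) ⟶ ⨁ fun i => freeSh Λ (U' i) :=
    biproduct.desc fun i => eqToHom (congrArg (fun j : I => freeSh Λ (U j.1.1 j.2))
      (E.symm_apply_apply ⟨⟨x, hx⟩, i⟩).symm) ≫ biproduct.ι (fun i => freeSh Λ (U' i)) (E ⟨⟨x, hx⟩, i⟩)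
  have hι : ι ≫ w ≫ v = φ x := biproduct.hom_ext' _ _ fun i => by
    simp only [ι, w, φ, biproduct.ι_desc_assoc, biproduct.ι_desc, Category.assoc]
    have key : ∀ (j : I) (h : freeSh Λ (U x i) = freeSh Λ (U j.1.1 j.2)), j = ⟨⟨x, hx⟩, i⟩ →
        eqToHom h ≫ a j.1.1 j.2 ≫ v = a x i ≫ v := by
      rintro j h rfl
      simp
    exact key _ _ (E.symm_apply_apply _)
  have : Epi (S.map ι ≫ S.map (w ≫ v)) := by rw [← Functor.map_comp, hι]; infer_instance
  exact epi_of_epi (S.map ι) _

end Groth.Agent.ModGenLib
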