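import Groth.Agent.ModGenLib.Ext
import Groth.Agent.BddResLib.Main
import Groth.Agent.EtShLib.JContAll

/-! Resolutions of bounded above complexes with constructible cohomology by free sheaves. -/

set_option autoImplicit false
set_option linter.unusedSectionVars false
set_option linter.style.haveILetI false
set_option backward.isDefEq.respectTransparency false
set_option backward.isDefEq.respectTransparency.types false
set_option synthInstance.maxHeartbeats 400000
set_option maxHeartbeats 1000000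

universe u

open CategoryTheory CategoryTheory.Limits AlgebraicGeometry Opposite

namespace Groth.Agent.ModGenLib

open Groth.Agent.EtShLib

attribute [local instance] Abelian.hasFiniteBiproducts

variable (Λ : Type (u + 1)) [CommRing Λ] (X : Scheme.{u})

/-- Finite sums of free sheaves on affine objects. -/
def IsFreeSum : ObjectProperty (EtModW.Mod Λ X) := fun E =>
  ∃ (a : ℕ) (U : Fin a → X.Etale), (∀ i, IsAffine (U i).left) ∧ Nonempty (E ≅ ⨁ fun i => freeSh Λ (U i))

variable {Λ X} [IsNoetherianRing Λ] [CompactSpace X] [QuasiSeparatedSpace X]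

theorem IsFreeSum.isCons {E : EtModW.Mod Λ X} (h : IsFreeSum Λ X E) :
    IsCons (A := ModuleCat.{u + 1} Λ) FinMP E := by
  obtain ⟨a, U, hU, ⟨e⟩⟩ := h
  exact (isCons_biproduct _ fun i => haveI := hU i; Groth.Agent.ModGenLib.isCons Λ (U i)).of_hom e.inv

/-- Complexes with constructible cohomology, zero above `n`, are resolved by free sums. -/
theorem exists_free_resolution (K : CochainComplex (EtModW.Mod Λ X) ℤ)
    (hK : ∀ i, IsCons (A := ModuleCat.{u + 1} Λ) FinMP (K.homology i)) (n : ℤ)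
    (hn : ∀ i, n < i → IsZero (K.homology i)) :
    ∃ (K' : CochainComplex (EtModW.Mod Λ X) ℤ) (φ : K' ⟶ K), QuasiIso φ ∧ (∀ i, n < i → IsZero (K'.X i)) ∧
      ∀ i, IsFreeSum Λ X (K'.X i) := by
  refine BddResLib.exists_resolution (P := IsFreeSum Λ X)
    (Cn := fun E => IsCons (A := ModuleCat.{u + 1} Λ) FinMP E) (K := K) (fun e h => h.of_hom e.hom) (fun E h => h.isCons)
    (fun φ => consMod_kernel φ) (fun S hS => consMod_extension hS) (fun {M B} v hv hB => ?_) hK n hn
    (O := ⨁ fun i : Fin 0 => freeSh Λ (Fin.elim0 i : X.Etale))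
    ((IsZero.iff_id_eq_zero _).2 (biproduct.hom_ext _ _ fun i => i.elim0))
    ⟨0, fun i => i.elim0, fun i => i.elim0, ⟨Iso.refl _⟩⟩
  haveI := hv
  obtain ⟨a, U, hU, w, hw⟩ := exists_generators v hB
  exact ⟨_, w, ⟨a, U, hU, ⟨Iso.refl _⟩⟩, hw⟩

omit [CompactSpace X] [QuasiSeparatedSpace X] in
theorem isCons_homology (C : CochainComplex (EtModW.Mod Λ X) ℤ)
    (h : ∀ i, IsCons (A := ModuleCat.{u + 1} Λ) FinMP (C.X i)) (i : ℤ) :
    IsCons (A := ModuleCat.{u + 1} Λ) FinMP (C.homology i) := by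
  have hc : IsCons (A := ModuleCat.{u + 1} Λ) FinMP (C.cycles i) :=
    (consMod_kernel (C.d i (i + 1)) (h i) (h (i + 1))).of_hom
      ((limit.isLimit _).conePointUniqueUpToIso (C.cyclesIsKernel i (i + 1) (by simp))).hom
  exact (consMod_cokernel (C.toCycles (i - 1) i) (h (i - 1)) hc).of_hom
    ((colimit.isColimit _).coconePointUniqueUpToIso (C.homologyIsCokernel (i - 1) i (by simp))).hom

omit [IsNoetherianRing Λ] [CompactSpace X] [QuasiSeparatedSpace X] in
theorem nonempty_sigma_extZero_iso {m : ℕ} (U : Fin m → Scheme.{u}) (j : ∀ k, U k ⟶ X)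
    [∀ k, AlgebraicGeometry.Etale (j k)] [∀ k, EtShriek.JCont (j k)] :
    Nonempty ((∐ fun k => (EtSix.extZeroMod Λ (j k)).obj (EtSix.constΛ Λ (U k))) ≅
      ⨁ fun k => freeSh Λ (etaleObj (j k))) := by
  let e : ∀ k, (EtSix.extZeroMod Λ (j k)).obj (EtSix.constΛ Λ (U k)) ≅ freeSh Λ (etaleObj (j k)) := fun k =>
    (nonempty_extZero_constΛ (j k) (etaleObj (j k)) (MorphismProperty.Over.isoMk (Iso.refl _))).some
  exact ⟨Sigma.mapIso e ≪≫ (biproduct.isoCoproduct fun k => freeSh Λ (etaleObj (j k))).symm⟩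

omit [IsNoetherianRing Λ] [CompactSpace X] [QuasiSeparatedSpace X] in
theorem nonempty_iso_sigma_extZero {m : ℕ} (U : Fin m → X.Etale) [∀ k, AlgebraicGeometry.Etale (U k).hom]
    [∀ k, EtShriek.JCont (U k).hom] :
    Nonempty ((⨁ fun k => freeSh Λ (U k)) ≅
      ∐ fun k => (EtSix.extZeroMod Λ (U k).hom).obj (EtSix.constΛ Λ (U k).left)) := by
  let e : ∀ k, (EtSix.extZeroMod Λ (U k).hom).obj (EtSix.constΛ Λ (U k).left) ≅ freeSh Λ (U k) := fun k =>
    (nonempty_extZero_constΛ (U k).hom (U k) (MorphismProperty.Over.isoMk (Iso.refl _))).some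
  exact ⟨(Sigma.mapIso e ≪≫ (biproduct.isoCoproduct fun k => freeSh Λ (U k)).symm).symm⟩

end Groth.Agent.ModGenLib
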